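import Cfsg.Agent.H328.TW.StabSU

/-!
# S3694, task T8: the defining characteristic, unitary case (helper328)

`char_su` : the situation `Sit` is impossible in `PSU_n(q)`, `r | q`.
-/

set_option autoImplicit false

namespace Cfsg.Agent.H328.TW

open Subgroup Cfsg Cfsg.Agent.H607.TW Cfsg.Agent.H296.TW Cfsg.Agent.H477.HC Cfsg.Agent.LieClassical.HermBasic
  Cfsg.Agent.H477.HC.CForm Module

universe u v

variable {G : Type u} [Group G] [Finite G] {N A C A₁ C₁ A₂ C₂ : Subgroup G} {r d : ℕ}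
  {F : Type} [Field F] [Fintype F] {n q : ℕ} (hq : Nat.card F = q ^ 2)

include hq in
omit [Finite G] in
theorem dvd_card_N [hr : Fact r.Prime] [CharP F r] (hn : 3 ≤ n) {π : SU n F q →* G}
    (hM : Model N (iSU n F q) π) [Finite N] : r ∣ Nat.card N := by
  classical
  have hH := hm_herm hq n
  obtain ⟨x, -, hx, -, -⟩ := exists_norm_neg_one hq
  have hq2 := two_le_of_card hq
  obtain ⟨i₀, i₁, h01⟩ : ∃ i₀ i₁ : Fin n, i₀ ≠ i₁ :=
    ⟨⟨0, by omega⟩, ⟨1, by omega⟩, fun h => by simpa using congrArg Fin.val h⟩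
  obtain ⟨u, hu⟩ : ∃ u : Fin n → F, u = Pi.single i₀ 1 + x • Pi.single i₁ 1 := ⟨_, rfl⟩
  have hu0 : u i₀ = 1 := by
    rw [hu, Pi.add_apply, Pi.single_eq_same, Pi.smul_apply, Pi.single_eq_of_ne h01, smul_zero, add_zero]
  have hu1 : u i₁ = x := by
    rw [hu, Pi.add_apply, Pi.single_eq_of_ne h01.symm, Pi.smul_apply, Pi.single_eq_same, smul_eq_mul, mul_one, zero_add]
  have hun : ∀ i : Fin n, i ≠ i₀ → i ≠ i₁ → u i = 0 := by
    intro i h0 h1
    rw [hu, Pi.add_apply, Pi.single_eq_of_ne h0, Pi.smul_apply, Pi.single_eq_of_ne h1, smul_zero, add_zero]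
  have huu : (CForm.hermF F hq n).B u u = 0 := by
    change hermForm n F q u u = 0
    unfold hermForm
    rw [Finset.sum_eq_add_of_mem i₀ i₁ (Finset.mem_univ _) (Finset.mem_univ _) h01
      (fun i _ hi => by rw [hun i hi.1 hi.2, zero_mul]), hu0, hu1, one_pow, one_mul, ← pow_succ']
    exact hx
  have hune : u ≠ 0 := fun h => by
    rw [h, Pi.zero_apply] at hu0
    exact zero_ne_one hu0
  obtain ⟨a, ha, ha'⟩ := hH.exists_skew
  have hu00 : (CForm.hermF F hq n).B u 0 = 0 := (CForm.hermF F hq n).B_zero_right u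
  have ha0 : a + (CForm.hermF F hq n).σ a + (CForm.hermF F hq n).B 0 0 = 0 := by
    rw [(CForm.hermF F hq n).B_zero_left, add_zero, ha']
  obtain ⟨g, hg⟩ := hH.exists_siegel (u := u) (b := 0) (α := a) huu hu00 ha0
  have hgS : IsSiegel (CForm.hermF F hq n) g := ⟨u, 0, a, huu, hu00, ha0, hg⟩
  obtain ⟨s, rfl⟩ := exists_act hq n (siegel_det hgS)
  have hpe : PE r s := siegel_pe hq (by omega) hgS
  have hs1 : s ≠ 1 := by
    intro h
    obtain ⟨v, hv⟩ : ∃ v, (CForm.hermF F hq n).B v u ≠ 0 := by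
      by_contra hcon
      push Not at hcon
      exact hune ((CForm.hermF F hq n).nondeg u fun w => (CForm.hermF F hq n).B_eq_zero (hcon w))
    have h1 := hg v
    rw [h, map_one] at h1
    simp only [smul_zero, add_zero, (CForm.hermF F hq n).B_zero_right, zero_smul, sub_zero] at h1
    have h2 : (a * (CForm.hermF F hq n).B v u) • u = 0 := by
      have h3 : v = v + (a * (CForm.hermF F hq n).B v u) • u := h1
      exact left_eq_add.1 h3
    rcases smul_eq_zero.1 h2 with h3 | h3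
    · exact mul_ne_zero ha hv h3
    · exact hune h3
  obtain ⟨k, hk⟩ := hpe
  have hx1 : π s ≠ 1 := fun h => hs1 (ker_pe hq hM h ⟨k, hk⟩)
  have hxN : π s ∈ N := by rw [← hM.range]; exact ⟨s, rfl⟩
  have h1 : orderOf (⟨π s, hxN⟩ : N) ∣ r ^ k := by
    apply orderOf_dvd_of_pow_eq_one
    apply Subtype.ext
    change (π s) ^ r ^ k = 1
    rw [← map_pow, hk, map_one]
  obtain ⟨j, -, hj⟩ := (Nat.dvd_prime_pow hr.out).1 h1
  have hj0 : j ≠ 0 := by
    rintro rfl
    rw [pow_zero, orderOf_eq_one_iff] at hj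
    exact hx1 (congrArg Subtype.val hj)
  exact ((dvd_pow_self r hj0).trans hj.symm.dvd).trans (orderOf_dvd_natCard _)

include hq in
/-- the space attached to a maximal subgroup -/
theorem exists_U [hr : Fact r.Prime] [CharP F r] (hn : 3 ≤ n) {π : SU n F q →* G} (hM : Model N (iSU n F q) π)
    (hA : Loc N A r) {R : Subgroup G} (hR : R ≠ ⊥) (hRA : R ≤ A) (hRn : A ≤ normalizer (R : Set G))
    (hRp : IsPGroup r R) : UU hq π r (OO r A ⊓ N) ≠ ⊥ ∧ UU hq π r (OO r A ⊓ N) ≠ ⊤ ∧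
      ∀ s : SU n F q, π s ∈ A ↔ ∀ u ∈ UU hq π r (OO r A ⊓ N), av hq n s u ∈ UU hq π r (OO r A ⊓ N) := by
  have hE : OO r A ⊓ N ≠ ⊥ := E_ne hA (dvd_card_N hq hn hM) hR hRA hRn hRp
  have hEp : IsPGroup r (OO r A ⊓ N : Subgroup G) := (OO_isPGroup r A).to_le inf_le_left
  have hU0 : UU hq π r (OO r A ⊓ N) ≠ ⊥ :=
    UU_ne hq (hatp (hq := hq) hM hEp) (hat_ne (hq := hq) hM hEp inf_le_right hE)
  have hU1 : UU hq π r (OO r A ⊓ N) ≠ ⊤ := by
    intro h
    have h1 := UU_TS hq π r (OO r A ⊓ N)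
    rw [h] at h1
    have h2 : ∀ v : Fin n → F, v = 0 := fun v =>
      (CForm.hermF F hq n).nondeg v fun u => h1.2 v trivial u trivial
    have h3 := congrFun (h2 (Pi.single ⟨0, by omega⟩ 1)) ⟨0, by omega⟩
    rw [Pi.single_eq_same, Pi.zero_apply] at h3
    exact one_ne_zero h3
  refine ⟨hU0, hU1, stab_iff hq hn hM hA hU0 hU1 fun a ha σ f hf v => ?_⟩
  refine hf.UU_iff hM hEp hEp inf_le_right (fun x => ⟨fun hx => ⟨OO_conj_self ha hx.1, hA.normal.conj_mem _ hx.2 _⟩,
    fun hx => ?_⟩) v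
  have h1 : a⁻¹ * (a * x * a⁻¹) * a⁻¹⁻¹ = x := by group
  rw [← h1]
  exact ⟨OO_conj_self (A.inv_mem ha) hx.1, hA.normal.conj_mem _ hx.2 _⟩

include hq in
/-- the main argument -/
theorem main [hr : Fact r.Prime] [CharP F r] (hn : 3 ≤ n) {π : SU n F q →* G} (hM : Model N (iSU n F q) π)
    (h : Sit N A C A₁ C₁ A₂ C₂ r d) : False := by
  classical
  have hH := hm_herm hq n
  have hA₂p : IsPGroup r A₂ := (OO_isPGroup r C).to_le h.A₂_OO
  have hC₂p : IsPGroup r C₂ := (OO_isPGroup r A).to_le h.C₂_OO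
  have hA₂A : A₂ ≤ A := h.A₂_le.trans (inf_le_left.trans (h.A₁_le.trans inf_le_left))
  have hC₂C : C₂ ≤ C := h.C₂_le.trans (inf_le_right.trans (h.C₁_le.trans inf_le_right))
  obtain ⟨hUA0, hUA1, hstA⟩ := exists_U hq hn hM h.locA h.A₂_ne hA₂A h.A₂_norm hA₂p
  obtain ⟨hUC0, hUC1, hstC⟩ := exists_U hq hn hM h.locC h.C₂_ne hC₂C h.C₂_norm hC₂p
  have hTA := UU_TS hq π r (OO r A ⊓ N)
  have hTC := UU_TS hq π r (OO r C ⊓ N)
  have hEAp : IsPGroup r (OO r A ⊓ N : Subgroup G) := (OO_isPGroup r A).to_le inf_le_left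
  have hECp : IsPGroup r (OO r C ⊓ N : Subgroup G) := (OO_isPGroup r C).to_le inf_le_left
  obtain ⟨UA, hUA⟩ : ∃ U, U = UU hq π r (OO r A ⊓ N) := ⟨_, rfl⟩
  obtain ⟨UC, hUC⟩ : ∃ U, U = UU hq π r (OO r C ⊓ N) := ⟨_, rfl⟩
  -- `UA`, `UC` have the same cardinality
  have hcard : finrank F UA = finrank F UC := by
    obtain ⟨g, hg⟩ := h.conj
    obtain ⟨σ, f, hf⟩ := exists_lf (hq := hq) hn hM g
    have h1 : ∀ v, v ∈ UA ↔ f v ∈ UC := by
      rw [hUA, hUC]
      refine hf.UU_iff hM hEAp hECp inf_le_right (fun x => ⟨fun hx => ⟨OO_conj_mem hg hx.1,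
        h.locA.normal.conj_mem _ hx.2 _⟩, fun hx => ?_⟩)
      have h2 : A = C.map (MulAut.conj g⁻¹).toMonoidHom := by
        rw [hg, Subgroup.map_map]
        conv_lhs => rw [← Subgroup.map_id A]
        congr 1
        ext y
        change y = g⁻¹ * (g * y * g⁻¹) * g⁻¹⁻¹
        group
      have h3 := OO_conj_mem h2 hx.1
      have h4 : g⁻¹ * (g * x * g⁻¹) * g⁻¹⁻¹ = x := by group
      rw [h4] at h3
      have h5 := h.locA.normal.conj_mem _ hx.2 g⁻¹
      rw [h4] at h5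
      exact ⟨h3, h5⟩
    have h2 : Nat.card UA = Nat.card UC := Nat.card_eq_of_bijective (fun v : UA => (⟨f v, (h1 v).1 v.2⟩ : UC))
      ⟨fun v w hvw => Subtype.ext (hf.bij.1 (congrArg Subtype.val hvw)), fun v => by
        obtain ⟨w, hw⟩ := hf.bij.2 v
        exact ⟨⟨w, (h1 w).2 (by rw [hw]; exact v.2)⟩, Subtype.ext hw⟩⟩
    rw [Module.natCard_eq_pow_finrank (K := F), Module.natCard_eq_pow_finrank (K := F) (V := UC)] at h2
    exact Nat.pow_right_injective (Finite.one_lt_card (α := F)) h2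
  -- the two subspaces are different
  have hEA : OO r A ⊓ N ≠ ⊥ := E_ne h.locA (dvd_card_N hq hn hM) h.A₂_ne hA₂A h.A₂_norm hA₂p
  have hnormi : ∀ {D : Subgroup G}, Loc N D r → D ≤ normalizer ((D ⊓ N : Subgroup G) : Set G) := by
    intro D hD a ha
    rw [mem_normalizer_iff]
    intro y
    constructor
    · intro hy
      exact ⟨D.mul_mem (D.mul_mem ha hy.1) (D.inv_mem ha), hD.normal.conj_mem _ hy.2 _⟩
    · intro hy
      have h4 : a⁻¹ * (a * y * a⁻¹) * a⁻¹⁻¹ = y := by group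
      rw [← h4]
      exact ⟨D.mul_mem (D.mul_mem (D.inv_mem ha) hy.1) (D.inv_mem (D.inv_mem ha)), hD.normal.conj_mem _ hy.2 _⟩
  have hne : UA ≠ UC := by
    intro heq
    apply h.ne
    have h1 : A ⊓ N = C ⊓ N := by
      ext y
      constructor
      · rintro ⟨hy1, hy2⟩
        refine ⟨?_, hy2⟩
        rw [SetLike.mem_coe, ← hM.range] at hy2
        obtain ⟨s, rfl⟩ := hy2
        have h3 := (hstA s).1 hy1
        rw [← hUA, heq, hUC] at h3
        exact (hstC s).2 h3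
      · rintro ⟨hy1, hy2⟩
        refine ⟨?_, hy2⟩
        rw [SetLike.mem_coe, ← hM.range] at hy2
        obtain ⟨s, rfl⟩ := hy2
        have h3 := (hstC s).1 hy1
        rw [← hUC, ← heq, hUA] at h3
        exact (hstA s).2 h3
    have h2 : A ⊓ N ≠ ⊥ := fun h2 => hEA (by
      rw [eq_bot_iff, ← h2]
      exact inf_le_inf_right N (OO_le r A))
    rw [← norm_eq h.locA h2 inf_le_left (hnormi h.locA), h1]
    exact norm_eq h.locC (by rw [← h1]; exact h2) inf_le_left (hnormi h.locC)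
  have hne' : ¬ UA ≤ UC := fun h1 => hne (Submodule.eq_of_le_of_finrank_eq h1 hcard)
  have hne'' : ¬ UC ≤ UA := fun h1 => hne (Submodule.eq_of_le_of_finrank_eq h1 hcard.symm).symm
  rw [← hUA] at hUA0 hUA1 hstA hTA
  rw [← hUC] at hUC0 hUC1 hstC hTC
  -- the group `X`
  have hAn : ∀ a ∈ A, ∀ y ∈ A₂, a * y * a⁻¹ ∈ A₂ := fun a ha y hy => ((h.A₂_norm ha) y).1 hy
  have hCn : ∀ c ∈ C, ∀ y ∈ C₁, c * y * c⁻¹ ∈ C₁ := fun c hc y hy => ((h.C₁_norm hc) y).1 hy
  obtain ⟨X, hX⟩ : ∃ X, X = A₂ ⊓ N := ⟨_, rfl⟩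
  have hXN : X ≤ N := by rw [hX]; exact inf_le_right
  have hXp : IsPGroup r X := hA₂p.to_le (by rw [hX]; exact inf_le_left)
  have hXA : ∀ a ∈ A, ∀ x, x ∈ X ↔ a * x * a⁻¹ ∈ X := by
    have key : ∀ a ∈ A, ∀ x ∈ X, a * x * a⁻¹ ∈ X := by
      intro a ha x hx
      rw [hX] at hx ⊢
      exact ⟨hAn a ha x hx.1, h.locA.normal.conj_mem _ hx.2 _⟩
    intro a ha x
    refine ⟨key a ha x, fun hx => ?_⟩
    have h1 := key a⁻¹ (A.inv_mem ha) _ hx
    have h4 : a⁻¹ * (a * x * a⁻¹) * a⁻¹⁻¹ = x := by group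
    rwa [h4] at h1
  have hX1 : X ≠ ⊥ := by
    intro hbot
    apply h.A₂_ne
    rw [eq_bot_iff, ← hbot, hX]
    refine le_inf le_rfl fun x hx => ?_
    refine mem_N_of_comm (A := A) hq hn hM h.locA.cent hTA hUA0 hstA fun y hy => ?_
    have h1 : x * y * x⁻¹ * y⁻¹ ∈ A₂ ⊓ N := by
      constructor
      · have h2 := A₂.mul_mem hx (hAn y hy.1 x⁻¹ (A₂.inv_mem hx))
        have h3 : x * (y * x⁻¹ * y⁻¹) = x * y * x⁻¹ * y⁻¹ := by group
        rwa [h3] at h2
      · exact N.mul_mem (h.locA.normal.conj_mem _ hy.2 _) (N.inv_mem hy.2)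
    rw [← hX, hbot, mem_bot] at h1
    calc x * y = (x * y * x⁻¹ * y⁻¹) * (y * x) := by group
      _ = y * x := by rw [h1, one_mul]
  have hPA := PA_big (A := A) (π := π) hq hstA
  have hPC := PA_big (A := C) (π := π) hq hstC
  have hinvX : PInv (CForm.hermF F hq n) (PA hq π A) (Fix hq π r X) := by
    rintro _ ⟨s, hs, rfl⟩ v hv
    exact ((lf_self (hq := hq) π s).fix_iff hM hXp hXp hXN (hXA _ hs) v).1 hv
  have hFX0 : Fix hq π r X ≠ ⊥ := by
    intro h1
    have h2 := Fix_inf_ne hq (hatp (hq := hq) hM hXp) (W := ⊤) (fun h2 => hUA1 (by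
      rw [eq_top_iff]
      rw [h2]
      exact bot_le)) (fun _ _ _ _ => trivial)
    rw [h1, bot_inf_eq] at h2
    exact h2 rfl
  have hFX1 : Fix hq π r X ≠ ⊤ := by
    intro h1
    apply hat_ne (hq := hq) hM hXp hXN hX1
    rw [eq_bot_iff_forall]
    intro s hs
    apply av_ext hq n
    intro v
    rw [av_one]
    have : v ∈ Fix hq π r X := by rw [h1]; trivial
    exact this s hs
  have hFX : Fix hq π r X = (CForm.hermF F hq n).perp UA := by
    rcases hH.inv_sub hTA hPA hinvX with h1 | h1 | h1 | h1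
    · exact absurd h1 hFX0
    · exfalso
      apply hne''
      rw [← h1, hUC]
      refine inf_le_left.trans (Fix_anti hq ?_)
      rw [hX]
      exact inf_le_inf_right N h.A₂_OO
    · exact h1
    · exact absurd h1 hFX1
  -- all conjugates of `UA` under `C` are orthogonal to `UA`
  have horth : ∀ s : SU n F q, π s ∈ C → ∀ u ∈ UA, ∀ v ∈ UA, (CForm.hermF F hq n).B (av hq n s u) v = 0 := by
    intro s hs u hu v hv
    by_contra hcon
    obtain ⟨v', hv'⟩ : ∃ v', v' = av hq n s⁻¹ v := ⟨_, rfl⟩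
    have hv : av hq n s v' = v := by rw [hv', av_inv']
    have h1 : v' ∉ (CForm.hermF F hq n).perp UA := by
      intro h2
      apply hcon
      apply (CForm.hermF F hq n).B_eq_zero
      rw [← hv, av_form]
      exact h2 u hu
    obtain ⟨_, ⟨t, ht, rfl⟩, h2⟩ := hH.exists_aniso hTA hPA ((hat π r X).map (act hq n)) (by
        rintro _ ⟨s, hs, rfl⟩ _ ⟨t, ht, rfl⟩
        refine ⟨s * t * s⁻¹, ?_, by rw [map_mul, map_mul, map_inv]⟩
        obtain ⟨ht1, k, hk⟩ := (hatm (hq := hq) hM hXp).1 ht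
        refine (hatm (hq := hq) hM hXp).2 ⟨?_, k, ?_⟩
        · rw [map_mul, map_mul, map_inv]
          exact (hXA _ hs _).1 ht1
        · rw [conj_pow, hk, mul_one, mul_inv_cancel]) (by
        rintro _ ⟨t, ht, rfl⟩ z hz
        rw [← hFX] at hz
        exact hz t ht) (by
        intro h2
        apply hat_ne (hq := hq) hM hXp hXN hX1
        exact (map_eq_bot_iff_of_injective _ (act_injective hq n)).1 h2) h1
    apply h2
    have h3 : π (s * t * s⁻¹) ∈ A := by
      have h4 : π t ∈ C₁ := by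
        have h5 := ((hatm (hq := hq) hM hXp).1 ht).1
        rw [hX] at h5
        exact (h.A₂_le h5.1).2
      rw [map_mul, map_mul, map_inv]
      exact (h.C₁_le (hCn _ hs _ h4)).1
    have h4 := (hstA _).1 h3 v (by assumption)
    have h5 : av hq n (s * t * s⁻¹) v - v ∈ UA := UA.sub_mem h4 (by assumption)
    have h6 := hTA.2 _ h5 v (by assumption)
    have h7 : av hq n (s * t * s⁻¹) v = av hq n s (av hq n t v') := by
      rw [av_mul, av_mul, hv']
    have h8 : av hq n (s * t * s⁻¹) v - v = av hq n s (av hq n t v' - v') := by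
      have h9 : av hq n s (av hq n t v' - v') = av hq n s (av hq n t v') - av hq n s v' := map_sub _ _ _
      rw [h9, h7, hv]
    have h10 : (CForm.hermF F hq n).B (av hq n s (av hq n t v' - v')) (av hq n s v') = 0 := by
      rw [← h8, hv]
      exact h6
    rw [av_form] at h10
    exact h10
  -- the span of the conjugates
  obtain ⟨R, hR⟩ : ∃ R : Submodule F (Fin n → F),
      R = Submodule.span F {w | ∃ s, π s ∈ C ∧ ∃ u ∈ UA, w = av hq n s u} := ⟨_, rfl⟩
  have hRinv : PInv (CForm.hermF F hq n) (PA hq π C) R := by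
    rintro _ ⟨s, hs, rfl⟩ w hw
    rw [hR] at hw ⊢
    induction hw using Submodule.span_induction with
    | mem x hx =>
      obtain ⟨t, ht, u, hu, rfl⟩ := hx
      refine Submodule.subset_span ⟨s * t, by rw [map_mul]; exact C.mul_mem hs ht, u, hu, ?_⟩
      exact (av_mul hq n s t u).symm
    | zero => rw [map_zero]; exact Submodule.zero_mem _
    | add x y _ _ hx hy => rw [map_add]; exact Submodule.add_mem _ hx hy
    | smul c x _ hx => rw [map_smul]; exact Submodule.smul_mem _ c hx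
  have hRle : R ≤ (CForm.hermF F hq n).perp UA := by
    rw [hR, Submodule.span_le]
    rintro _ ⟨s, hs, u, hu, rfl⟩ v hv
    exact horth s hs u hu v hv
  have hleR : UA ≤ R := by
    intro u hu
    rw [hR]
    exact Submodule.subset_span ⟨1, by rw [map_one]; exact C.one_mem, u, hu, (av_one hq n u).symm⟩
  rcases hH.inv_sub hTC hPC hRinv with h1 | h1 | h1 | h1
  · exact hUA0 (le_bot_iff.1 (h1 ▸ hleR))
  · exact hne' (h1 ▸ hleR)
  · apply hne'
    rw [h1] at hRle
    have h2 := (CForm.hermF F hq n).perp_anti hRle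
    rwa [(CForm.hermF F hq n).perp_perp, (CForm.hermF F hq n).perp_perp] at h2
  · apply hUA0
    rw [eq_bot_iff]
    intro u hu
    refine (Submodule.mem_bot F).2 ((CForm.hermF F hq n).nondeg u fun w => ?_)
    apply (CForm.hermF F hq n).B_eq_zero
    have h2 : w ∈ R := by rw [h1]; trivial
    exact hRle h2 u hu

/-- **task T8** : the defining characteristic, unitary case -/
theorem char_su {q : ℕ} (hF : Fintype.card F = q ^ 2) {π : ↥(Cfsg.SU n F q) →* G}
    (h : Sit N A C A₁ C₁ A₂ C₂ r d) (hr : r ∣ Fintype.card F) (hn : 3 ≤ n) (hM : Model N (iSU n F q) π) :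
    Nat.card A ≤ M d := by
  exfalso
  have hrp : Fact r.Prime := ⟨h.locA.prime⟩
  have := charP_of hrp.out hr
  have hq : Nat.card F = q ^ 2 := by rw [Nat.card_eq_fintype_card, hF]
  exact main hq hn hM h

end Cfsg.Agent.H328.TW
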