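import Cfsg.Agent.H607.TW.Defs
import Cfsg.Agent.Lib.Cores
import Cfsg.Agent.TwoFusion.FStarControl

/-!
# S3694-T8: group theoretic preliminaries (helper328)

* `OO_conj_mem`, `OO_isPGroup`, `le_OO`;
* `E_ne` : `O_r(A) ∩ N ≠ 1` if `r` divides `|N|`.
-/

set_option autoImplicit false

namespace Cfsg.Agent.H328.TW

open Subgroup Cfsg.Agent.H607.TW

universe u

variable {G : Type u} [Group G]

theorem OO_le (r : ℕ) (A : Subgroup G) : OO r A ≤ A := by
  rintro _ ⟨x, -, rfl⟩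
  exact x.2

theorem OO_isPGroup [Finite G] (r : ℕ) (A : Subgroup G) : IsPGroup r (OO r A) :=
  (Lib.Cores.pCore_isPGroup r).map _

theorem le_OO {r : ℕ} {A R : Subgroup G} (hRA : R ≤ A) (hn : A ≤ normalizer (R : Set G)) (hR : IsPGroup r R) :
    R ≤ OO r A := by
  intro x hx
  have h1 : (R.subgroupOf A).Normal := by
    constructor
    intro y hy a
    rw [mem_subgroupOf] at hy ⊢
    exact ((hn a.2) _).1 hy
  have h2 : IsPGroup r (R.subgroupOf A) := hR.comap_of_injective _ (subtype_injective A)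
  exact ⟨⟨x, hRA hx⟩, Lib.Cores.le_pCore h1 h2 hx, rfl⟩

theorem OO_conj_mem [Finite G] {r : ℕ} {A C : Subgroup G} {g : G} (hC : C = A.map (MulAut.conj g).toMonoidHom) {x : G}
    (hx : x ∈ OO r A) : g * x * g⁻¹ ∈ OO r C := by
  have hR : IsPGroup r ((OO r A).map (MulAut.conj g).toMonoidHom) := (OO_isPGroup r A).map _
  refine le_OO (R := (OO r A).map (MulAut.conj g).toMonoidHom) ?_ ?_ hR ⟨x, hx, rfl⟩
  · rw [hC]
    exact map_mono (OO_le r A)
  · rw [hC]
    rintro _ ⟨a, ha, rfl⟩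
    rw [mem_normalizer_iff]
    have key : ∀ a ∈ A, ∀ y ∈ (OO r A).map (MulAut.conj g).toMonoidHom,
        (MulAut.conj g) a * y * ((MulAut.conj g) a)⁻¹ ∈ (OO r A).map (MulAut.conj g).toMonoidHom := by
      rintro a ha _ ⟨z, ⟨z', hz', rfl⟩, rfl⟩
      refine ⟨a * z' * a⁻¹, ⟨⟨a, ha⟩ * z' * ⟨a, ha⟩⁻¹, (Lib.Cores.pCore_normal r).conj_mem _ hz' _, rfl⟩, ?_⟩
      change g * (a * z' * a⁻¹) * g⁻¹ = g * a * g⁻¹ * (g * z' * g⁻¹) * (g * a * g⁻¹)⁻¹
      group
    intro y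
    refine ⟨key a ha y, fun h => ?_⟩
    have h1 := key a⁻¹ (A.inv_mem ha) _ h
    have h2 : (MulAut.conj g) a⁻¹ * ((MulAut.conj g).toMonoidHom a * y * ((MulAut.conj g).toMonoidHom a)⁻¹) *
        ((MulAut.conj g) a⁻¹)⁻¹ = y := by
      rw [map_inv]
      change ((MulAut.conj g) a)⁻¹ * ((MulAut.conj g) a * y * ((MulAut.conj g) a)⁻¹) * (((MulAut.conj g) a)⁻¹)⁻¹ = y
      group
    rwa [h2] at h1

theorem OO_conj_self [Finite G] {r : ℕ} {A : Subgroup G} {a x : G} (ha : a ∈ A) (hx : x ∈ OO r A) :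
    a * x * a⁻¹ ∈ OO r A := by
  obtain ⟨z, hz, rfl⟩ := hx
  exact ⟨⟨a, ha⟩ * z * ⟨a, ha⟩⁻¹, (Lib.Cores.pCore_normal r).conj_mem _ hz _, rfl⟩

/-- a nontrivial subgroup normalised by `A`, contained in `A` : normalizer -/
theorem norm_eq [Finite G] {N A R : Subgroup G} {r : ℕ} (h : Loc N A r) (hR : R ≠ ⊥) (hRA : R ≤ A)
    (hn : A ≤ normalizer (R : Set G)) : normalizer (R : Set G) = A := by
  have := h.normal
  by_contra hne
  have h1 : normalizer (R : Set G) = ⊤ := h.max.2 _ (lt_of_le_of_ne hn (Ne.symm hne))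
  have hRn : R.Normal := normalizer_eq_top_iff.1 h1
  have h2 : ((N ⊓ R).subgroupOf N).Normal := inferInstance
  have := h.simple
  have h3 := h2.eq_bot_or_eq_top
  rcases h3 with h3 | h3
  · have h4 : N ⊓ R = ⊥ := by
      rw [subgroupOf_eq_bot] at h3
      have := disjoint_iff.1 h3
      rwa [inf_comm, ← inf_assoc, inf_idem] at this
    apply hR
    rw [eq_bot_iff, ← h.cent]
    intro x hx
    rw [mem_centralizer_iff]
    intro y hy
    have h5 : y * x * y⁻¹ * x⁻¹ ∈ N ⊓ R := by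
      refine ⟨?_, R.mul_mem (hRn.conj_mem x hx y) (R.inv_mem hx)⟩
      have h6 := N.mul_mem hy (h.normal.conj_mem _ (N.inv_mem hy) x)
      have h7 : y * (x * y⁻¹ * x⁻¹) = y * x * y⁻¹ * x⁻¹ := by group
      rwa [h7] at h6
    rw [h4, mem_bot] at h5
    have h6 : y * x = (y * x * y⁻¹ * x⁻¹) * (x * y) := by group
    rw [h6, h5, one_mul]
  · rw [subgroupOf_eq_top] at h3
    exact h.not_le ((h3.trans inf_le_right).trans hRA)

/-- `A ∩ N ≠ 1` -/
theorem inf_ne [Finite G] {N A R : Subgroup G} {r : ℕ} (h : Loc N A r) (hr : r ∣ Nat.card N) (hR : R ≠ ⊥) (hRA : R ≤ A)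
    (hn : A ≤ normalizer (R : Set G)) (hRp : IsPGroup r R) : A ⊓ N ≠ ⊥ := by
  classical
  have hrp : Fact r.Prime := ⟨h.prime⟩
  have := h.normal
  let _ : MulAction R N :=
    { smul := fun g x => ⟨(g : G) * x * (g : G)⁻¹, h.normal.conj_mem _ x.2 _⟩
      one_smul := fun x => Subtype.ext (by
        change ((1 : R) : G) * x * ((1 : R) : G)⁻¹ = x
        simp)
      mul_smul := fun a b x => Subtype.ext (by
        change ((a * b : R) : G) * x * ((a * b : R) : G)⁻¹ = (a : G) * ((b : G) * x * (b : G)⁻¹) * (a : G)⁻¹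
        rw [coe_mul]
        group) }
  obtain ⟨x, hx, hx1⟩ := hRp.exists_fixed_point_of_prime_dvd_card_of_fixed_point N hr (a := 1) (fun g => Subtype.ext (by
    change (g : G) * ((1 : N) : G) * (g : G)⁻¹ = ((1 : N) : G)
    simp))
  intro hbot
  apply hx1
  apply Subtype.ext
  have h1 : (x : G) ∈ A ⊓ N := by
    refine ⟨?_, x.2⟩
    change (x : G) ∈ A
    rw [← norm_eq h hR hRA hn, mem_normalizer_iff]
    have h2 : ∀ y ∈ R, (x : G) * y * (x : G)⁻¹ = y := by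
      intro y hy
      have h3 := congrArg Subtype.val (hx ⟨y, hy⟩)
      change y * (x : G) * y⁻¹ = x at h3
      calc (x : G) * y * (x : G)⁻¹ = (y * (x : G) * y⁻¹) * y * (x : G)⁻¹ := by rw [h3]
        _ = y := by group
    intro y
    refine ⟨fun hy => by rw [h2 y hy]; exact hy, fun hy => ?_⟩
    have h3 := h2 _ hy
    have h4 : y = (x : G)⁻¹ * ((x : G) * y * (x : G)⁻¹) * (x : G) := by group
    have h5 : (x : G) * y * (x : G)⁻¹ = y := by
      have h6 : (x : G) * ((x : G) * y * (x : G)⁻¹) * (x : G)⁻¹ = (x : G) * y * (x : G)⁻¹ := h3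
      have h7 := mul_right_cancel h6
      exact mul_left_cancel h7
    rw [← h5]
    exact hy
  rw [hbot, mem_bot] at h1
  exact h1.symm

/-- **`O_r(A) ∩ N ≠ 1`** -/
theorem E_ne [Finite G] {N A R : Subgroup G} {r : ℕ} (h : Loc N A r) (hr : r ∣ Nat.card N) (hR : R ≠ ⊥) (hRA : R ≤ A)
    (hn : A ≤ normalizer (R : Set G)) (hRp : IsPGroup r R) : OO r A ⊓ N ≠ ⊥ := by
  intro hbot
  apply inf_ne h hr hR hRA hn hRp
  rw [eq_bot_iff, ← hbot]
  rintro x ⟨hxA, hxN⟩
  refine ⟨?_, hxN⟩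
  have h1 : (⟨x, hxA⟩ : A) ∈ centralizer (Cfsg.generalizedFittingSubgroup ↥A : Set ↥A) := by
    rw [h.star, mem_centralizer_iff]
    intro y hy
    have h2 : (y : G) * x * (y : G)⁻¹ * x⁻¹ ∈ OO r A ⊓ N := by
      constructor
      · have h3 : (y : G) * (x * (y : G)⁻¹ * x⁻¹) ∈ OO r A :=
          (OO r A).mul_mem ⟨y, hy, rfl⟩ (OO_conj_self hxA ((OO r A).inv_mem ⟨y, hy, rfl⟩))
        have h4 : (y : G) * (x * (y : G)⁻¹ * x⁻¹) = (y : G) * x * (y : G)⁻¹ * x⁻¹ := by group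
        rwa [h4] at h3
      · exact N.mul_mem (h.normal.conj_mem _ hxN _) (N.inv_mem hxN)
    rw [hbot, mem_bot] at h2
    apply Subtype.ext
    change (y : G) * x = x * y
    have h3 : (y : G) * x = ((y : G) * x * (y : G)⁻¹ * x⁻¹) * (x * y) := by group
    rw [h3, h2, one_mul]
  have h2 := TwoFusion.FStarControl.fitting_le_genFitting
    (TwoFusion.FStarControl.centralizer_genFitting_le_fitting h1)
  rw [h.star] at h2
  exact ⟨_, h2, rfl⟩

end Cfsg.Agent.H328.TW
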