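import Cfsg.Agent.H328.TW.FixL

/-!
# S3694-T8: the stabilizer (helper328)

* `stab_iff` : `A ∩ N` is the stabilizer of an `A`-invariant proper subspace;
* `mem_N_of_comm` : an element of `G` commuting with the stabilizer of a totally isotropic subspace lies in `N`.
-/

set_option autoImplicit false

namespace Cfsg.Agent.H328.TW

open Subgroup Cfsg Cfsg.Agent.H607.TW Cfsg.Agent.H296.TW Cfsg.Agent.H477.HC Cfsg.Agent.LieClassical.HermBasic
  Cfsg.Agent.H477.HC.CForm Module

universe u v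

variable {G : Type u} [Group G] {N A : Subgroup G} {r : ℕ} {F : Type} [Field F] [Fintype F] {n q : ℕ}
  (hq : Nat.card F = q ^ 2)

theorem charP_of {r : ℕ} (hr : r.Prime) (h : r ∣ Fintype.card F) : CharP F r := by
  have hp := CharP.exists F
  obtain ⟨p, hp⟩ := hp
  have hpr : p.Prime := (CharP.char_is_prime_or_zero F p).resolve_right (CharP.char_ne_zero_of_finite F p)
  obtain ⟨m, -, hm⟩ := FiniteField.card F p
  rw [hm] at h
  have := (Nat.prime_dvd_prime_iff_eq hr hpr).1 (hr.dvd_of_dvd_pow h)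
  rw [this]
  exact hp

/-- Siegel transformations have `r`-power order -/
theorem siegel_pe [hr : Fact r.Prime] [CharP F r] (hn : 0 < n) {s : SU n F q}
    (hs : IsSiegel (CForm.hermF F hq n) (act hq n s)) : PE r s := by
  have : Nonempty (Fin n) := ⟨⟨0, hn⟩⟩
  have h1 := siegel_nilp hs
  have h2 : (mt (iSU n F q) s - 1) ^ 3 = 0 := by
    apply (Matrix.toLinAlgEquiv' (R := F) (n := Fin n)).injective
    rw [map_pow, map_sub, map_one, map_zero, ← h1]
    congr 1
  have h3 : (mt (iSU n F q) s) ^ r ^ 2 = 1 := by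
    have h4 : (mt (iSU n F q) s - 1) ^ r ^ 2 = 0 := by
      have h5 : 3 ≤ r ^ 2 := by
        have := hr.out.two_le
        nlinarith
      obtain ⟨m, hm⟩ := Nat.exists_eq_add_of_le h5
      rw [hm, pow_add, h2, zero_mul]
    rw [sub_pow_char_pow_of_commute r 2 (Commute.one_right _), one_pow] at h4
    exact sub_eq_zero.1 h4
  refine ⟨2, ?_⟩
  apply av_ext hq n
  intro v
  have h4 : ∀ m : ℕ, mt (iSU n F q) (s ^ m) = (mt (iSU n F q) s) ^ m := by
    intro m
    induction m with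
    | zero => rw [pow_zero, pow_zero, mt_one]
    | succ m ih => rw [pow_succ, pow_succ, mt_mul, ih]
  rw [av_mt, h4, h3, Matrix.one_mulVec, av_one]

theorem av_mem_iff {U : Submodule F (Fin n → F)} {s : SU n F q} (h : ∀ u ∈ U, av hq n s u ∈ U) (u : Fin n → F) :
    u ∈ U ↔ av hq n s u ∈ U := by
  refine ⟨h u, fun hu => ?_⟩
  have hinj : Function.Injective (fun x : U => (⟨av hq n s x, h x x.2⟩ : U)) := by
    intro x y hxy
    have h1 := congrArg Subtype.val hxy
    apply Subtype.ext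
    rw [← av_inv hq n s x, ← av_inv hq n s y]
    exact congrArg (av hq n s⁻¹) h1
  obtain ⟨x, hx⟩ := (Finite.injective_iff_surjective.1 hinj) ⟨_, hu⟩
  have h1 := congrArg Subtype.val hx
  have h2 : (x : Fin n → F) = u := by
    rw [← av_inv hq n s x, ← av_inv hq n s u]
    exact congrArg (av hq n s⁻¹) h1
  rw [← h2]
  exact x.2

/-- `SU` is irreducible -/
theorem irr_top {π : SU n F q →* G} (hM : Model N (iSU n F q) π) {U : Submodule F (Fin n → F)}
    (h : ∀ s : SU n F q, ∀ u ∈ U, av hq n s u ∈ U) : U = ⊥ ∨ U = ⊤ := by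
  classical
  by_contra hcon
  push Not at hcon
  obtain ⟨u, hu, hu0⟩ := (Submodule.ne_bot_iff U).1 hcon.1
  apply hcon.2
  rw [Submodule.eq_top_iff']
  intro v
  have hall : ∀ M : Matrix (Fin n) (Fin n) F, M.mulVec u ∈ U := by
    intro M
    have hM' : M ∈ Submodule.span F (Set.range (mt (iSU n F q))) := by rw [hM.span]; trivial
    induction hM' using Submodule.span_induction with
    | mem x hx =>
      obtain ⟨s, rfl⟩ := hx
      exact h s u hu
    | zero => rw [Matrix.zero_mulVec]; exact U.zero_mem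
    | add x y _ _ hx hy => rw [Matrix.add_mulVec]; exact U.add_mem hx hy
    | smul c x _ hx => rw [Matrix.smul_mulVec]; exact U.smul_mem c hx
  obtain ⟨i, hi⟩ : ∃ i, u i ≠ 0 := by
    by_contra hc
    push Not at hc
    exact hu0 (funext hc)
  have h1 := hall (Matrix.of fun j k => if k = i then v j * (u i)⁻¹ else 0)
  have h2 : (Matrix.of fun j k => if k = i then v j * (u i)⁻¹ else 0).mulVec u = v := by
    ext j
    simp only [Matrix.mulVec, dotProduct, Matrix.of_apply, ite_mul, zero_mul, Finset.sum_ite_eq',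
      Finset.mem_univ, if_true]
    rw [mul_assoc, inv_mul_cancel₀ hi, mul_one]
  rwa [h2] at h1

/-- **`A ∩ N` is the stabilizer** -/
theorem stab_iff [Finite G] (hn : 3 ≤ n) {π : SU n F q →* G} (hM : Model N (iSU n F q) π) (hA : Loc N A r)
    {U : Submodule F (Fin n → F)} (hU0 : U ≠ ⊥) (hU1 : U ≠ ⊤)
    (hinv : ∀ a ∈ A, ∀ σ f, Lf hq π a σ f → ∀ v, v ∈ U ↔ f v ∈ U) (s : SU n F q) :
    π s ∈ A ↔ ∀ u ∈ U, av hq n s u ∈ U := by
  refine ⟨fun hs u hu => (hinv _ hs _ _ (lf_self π s) u).1 hu, fun hs => ?_⟩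
  let St₀ : Subgroup (SU n F q) :=
    { carrier := {t | ∀ u, u ∈ U ↔ av hq n t u ∈ U}
      one_mem' := fun u => by rw [av_one]
      mul_mem' := fun {a b} ha hb u => by rw [av_mul, ← ha, ← hb]
      inv_mem' := fun {a} ha u => by rw [ha (av hq n a⁻¹ u), av_inv'] }
  obtain ⟨St, hSt⟩ : ∃ St : Subgroup G, St = St₀.map π := ⟨_, rfl⟩
  have hStN : St ≤ N := by
    rw [hSt, ← hM.range]
    exact map_le_range _ _
  have hsSt : π s ∈ St := by
    rw [hSt]
    exact ⟨s, fun u => av_mem_iff hq hs u, rfl⟩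
  have key : ∀ a ∈ A, ∀ y ∈ St, a * y * a⁻¹ ∈ St := by
    intro a ha y hy
    rw [hSt] at hy ⊢
    obtain ⟨t, ht, rfl⟩ := hy
    obtain ⟨σ, f, hf⟩ := exists_lf (hq := hq) hn hM a
    obtain ⟨t', h1, h2⟩ := hf.conj t
    refine ⟨t', fun u => ?_, h2⟩
    obtain ⟨v, rfl⟩ := hf.bij.2 u
    rw [← hinv a ha σ f hf v, ← h1, ← hinv a ha σ f hf]
    exact ht v
  have hnorm : A ≤ normalizer (St : Set G) := by
    intro a ha
    rw [mem_normalizer_iff]
    intro y
    refine ⟨key a ha y, fun h => ?_⟩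
    have h1 := key a⁻¹ (A.inv_mem ha) _ h
    have h2 : a⁻¹ * (a * y * a⁻¹) * a⁻¹⁻¹ = y := by group
    rwa [h2] at h1
  by_cases hNA : normalizer (St : Set G) = A
  · rw [← hNA]
    exact le_normalizer hsSt
  · have h1 : normalizer (St : Set G) = ⊤ := hA.max.2 _ (lt_of_le_of_ne hnorm (Ne.symm hNA))
    have hStn : St.Normal := normalizer_eq_top_iff.1 h1
    have h2 : (St.subgroupOf N).Normal := hStn.subgroupOf N
    have := hA.simple
    rcases h2.eq_bot_or_eq_top with h3 | h3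
    · have h4 : St = ⊥ := by
        rw [subgroupOf_eq_bot] at h3
        have := disjoint_iff.1 h3
        rwa [inf_eq_left.2 hStN] at this
      rw [h4, mem_bot] at hsSt
      rw [hsSt]
      exact A.one_mem
    · exfalso
      rw [subgroupOf_eq_top] at h3
      have h4 : ∀ t : SU n F q, ∀ u ∈ U, av hq n t u ∈ U := by
        intro t u hu
        have h5 : π t ∈ St := h3 (by rw [← hM.range]; exact ⟨t, rfl⟩)
        rw [hSt] at h5
        obtain ⟨t', ht', h6⟩ := h5
        obtain ⟨c, hc⟩ := ker_scalar hq hM (s := t'⁻¹ * t) (by rw [map_mul, map_inv, h6, inv_mul_cancel])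
        have h7 : av hq n t u = c • av hq n t' u := by
          have : t = t' * (t'⁻¹ * t) := by group
          rw [this, av_mul, hc, av_smul]
        rw [h7]
        exact U.smul_mem c ((ht' u).1 hu)
      rcases irr_top hq hM h4 with h5 | h5
      · exact hU0 h5
      · exact hU1 h5

/-- the group of isometries over `A` -/
noncomputable def PA (π : SU n F q →* G) (A : Subgroup G) : Subgroup (CForm.hermF F hq n).iso :=
  (A.comap π).map (act hq n)

theorem PA_big {π : SU n F q →* G} {U : Submodule F (Fin n → F)}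
    (hst : ∀ s : SU n F q, π s ∈ A ↔ ∀ u ∈ U, av hq n s u ∈ U) : Big (CForm.hermF F hq n) (PA hq π A) U := by
  intro g hg hgU
  obtain ⟨s, hs⟩ := exists_act hq n (siegel_det hg)
  refine ⟨s, ?_, hs⟩
  change π s ∈ A
  rw [hst]
  intro u hu
  unfold av
  rw [hs]
  exact hgU u hu

/-- **elements commuting with the stabilizer** -/
theorem mem_N_of_comm (hn : 3 ≤ n) [hr : Fact r.Prime] [CharP F r] {π : SU n F q →* G} (hM : Model N (iSU n F q) π)
    (hcent : centralizer (N : Set G) = ⊥) {U : Submodule F (Fin n → F)} (hU : (CForm.hermF F hq n).TS U)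
    (hU0 : U ≠ ⊥) (hst : ∀ s : SU n F q, π s ∈ A ↔ ∀ u ∈ U, av hq n s u ∈ U) {x : G}
    (hx : ∀ y ∈ A ⊓ N, x * y = y * x) : x ∈ N := by
  obtain ⟨σ, f, hf⟩ := exists_lf (hq := hq) hn hM x
  have hH := hm_herm hq n
  have hcomm : ∀ g : (CForm.hermF F hq n).iso, IsSiegel (CForm.hermF F hq n) g → g ∈ PA hq π A →
      ∀ v, f ((g : (Fin n → F) ≃ₗ[F] (Fin n → F)) v) = (g : (Fin n → F) ≃ₗ[F] (Fin n → F)) (f v) := by
    rintro _ hg ⟨s, hs, rfl⟩ v
    have hpe : PE r s := siegel_pe hq (by omega) hg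
    obtain ⟨s', h1, h2⟩ := hf.conj s
    have h3 : π s' = π s := by
      rw [h2, hx (π s) ⟨hs, by rw [← hM.range]; exact ⟨s, rfl⟩⟩]
      group
    have h4 : s' = s := uniq (hq := hq) hM h3 (hf.pe h1 hpe) hpe
    have h5 := h1 v
    rw [h4] at h5
    exact h5
  obtain ⟨hσ, u, μ, hu, hu0, hμ0, hBu, hfu, hfb, hfv⟩ := hH.semi_unip hU (PA_big hq hst) hU0
    (by rw [Module.finrank_fintype_fun_eq_card, Fintype.card_fin]; exact hn) σ f hf.add hf.smul hcomm hf.bij.1
  have hform : ∀ v w, (CForm.hermF F hq n).B (f v) (f w) = (CForm.hermF F hq n).B v w := fun v w => by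
    rw [hf.form, hσ]
  obtain ⟨v₀, hv₀⟩ : ∃ v₀, (CForm.hermF F hq n).B v₀ u ≠ 0 := by
    by_contra hcon
    push Not at hcon
    exact hu0 ((CForm.hermF F hq n).nondeg u fun w => (CForm.hermF F hq n).B_eq_zero (hcon w))
  have hμ1 : (CForm.hermF F hq n).σ μ * μ = 1 := by
    have h1 := hform v₀ u
    rw [hfu, (CForm.hermF F hq n).B_smul_right, hBu, ← mul_assoc] at h1
    exact mul_right_cancel₀ hv₀ (by rw [h1, one_mul])
  -- the unipotent isometry
  let g₀ : (Fin n → F) →ₗ[F] (Fin n → F) :=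
    { toFun := fun v => μ⁻¹ • f v
      map_add' := fun v w => by rw [hf.add, smul_add]
      map_smul' := fun c v => by rw [hf.smul, hσ, smul_comm, RingHom.id_apply] }
  have hg₀ : ∀ v, g₀ v = μ⁻¹ • f v := fun v => rfl
  have hB₀ : ∀ v w, (CForm.hermF F hq n).B (g₀ v) (g₀ w) = (CForm.hermF F hq n).B v w := by
    intro v w
    rw [hg₀, hg₀, (CForm.hermF F hq n).B_smul_left, (CForm.hermF F hq n).B_smul_right, hform, map_inv₀,
      ← mul_assoc, ← mul_inv, mul_comm μ, hμ1, inv_one, one_mul]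
  obtain ⟨g, hg⟩ := (CForm.hermF F hq n).exists_iso g₀ hB₀ (fun v => by rw [hH.Q, hH.Q, hB₀])
  have hD : ∀ v, (g₀ - 1) v = μ⁻¹ • (f v - μ • v) := by
    intro v
    rw [LinearMap.sub_apply, Module.End.one_apply, hg₀, smul_sub, smul_smul, inv_mul_cancel₀ hμ0, one_smul]
  have hD4 : (g₀ - 1) ^ 4 = 0 := by
    ext1 i
    ext1
    rw [LinearMap.comp_apply, LinearMap.comp_apply]
    generalize (LinearMap.single F (fun _ => F) i) 1 = v
    rw [pow_succ, pow_succ, pow_succ, pow_one, Module.End.mul_apply, Module.End.mul_apply, Module.End.mul_apply]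
    have e1 : (CForm.hermF F hq n).B ((g₀ - 1) v) u = 0 := by
      rw [hD, (CForm.hermF F hq n).B_smul_left, (CForm.hermF F hq n).B_sub_left, hBu,
        (CForm.hermF F hq n).B_smul_left, sub_self, mul_zero]
    have e2 : (g₀ - 1) ((g₀ - 1) v) ∈ U := by
      rw [hD ((g₀ - 1) v)]
      exact U.smul_mem _ (hfv _ e1)
    obtain ⟨c, hc⟩ := hfb _ (hU.le_perp e2)
    have e3 : (g₀ - 1) ((g₀ - 1) ((g₀ - 1) v)) = (μ⁻¹ * c) • u := by
      rw [hD ((g₀ - 1) ((g₀ - 1) v)), hc, add_sub_cancel_left, smul_smul]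
    rw [e3, map_smul, hD, hfu, sub_self, smul_zero, smul_zero]
    rfl
  have hgdet : LinearMap.det ((g : (Fin n → F) ≃ₗ[F] (Fin n → F)) : (Fin n → F) →ₗ[F] (Fin n → F)) = 1 := by
    have h1 : ((g : (Fin n → F) ≃ₗ[F] (Fin n → F)) : (Fin n → F) →ₗ[F] (Fin n → F)) = g₀ := by
      ext1 i
      ext1
      exact hg _
    rw [h1]
    exact det_one_of_nilp ⟨4, hD4⟩
  obtain ⟨s₀, hs₀⟩ := exists_act hq n hgdet
  have hav : ∀ v, f v = μ • av hq n s₀ v := by
    intro v
    unfold av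
    rw [hs₀, hg, hg₀, smul_smul, mul_inv_cancel₀ hμ0, one_smul]
  have h1 : x⁻¹ * π s₀ ∈ centralizer (N : Set G) := by
    rw [mem_centralizer_iff]
    intro y hy
    rw [SetLike.mem_coe, ← hM.range] at hy
    obtain ⟨s, rfl⟩ := hy
    obtain ⟨s', h2, h3⟩ := hf.conj s
    have h4 : s₀ * s = s' * s₀ := by
      apply av_ext hq n
      intro v
      have h5 := h2 v
      rw [hav, hav, av_smul] at h5
      have h6 := smul_right_injective _ hμ0 h5
      rw [av_mul, av_mul]
      exact h6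
    have h5 : π s₀ * π s = x * π s * x⁻¹ * π s₀ := by rw [← h3, ← map_mul, ← map_mul, h4]
    calc π s * (x⁻¹ * π s₀) = x⁻¹ * (x * π s * x⁻¹ * π s₀) := by group
      _ = x⁻¹ * (π s₀ * π s) := by rw [h5]
      _ = x⁻¹ * π s₀ * π s := by group
  rw [hcent, mem_bot] at h1
  rw [show x = π s₀ from (inv_mul_eq_one.1 h1), ← hM.range]
  exact ⟨s₀, rfl⟩

end Cfsg.Agent.H328.TW
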